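import Groth.Agent.S0816
import Groth.Agent.S7887
import Groth.Agent.Lib.ExtFil4.Uniq
import Groth.Agent.Lib.FormalH7.Nbhd
import Groth.Agent.Lib.FormalH7.Power
import Groth.Agent.Lib.AffCompl.Ample
import Groth.Agent.Lib.HdgLef1.Decomp
import Groth.Agent.Lib.NumConn10.Fibre
import Groth.Agent.Lib.TensorMod.PullTensor
import Groth.Agent.Lib.PointBlowUp32.Global
import Groth.Agent.Lib.PointBlowUp32.Seq
import Groth.Agent.Lib.PicPn.Aut
import Groth.Agent.Lib.RegExt.P1
import Groth.Agent.Lib.DMon9.Pull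

/-!
# Invertible modules on a blowing up: powers of the exceptional divisor
-/

set_option autoImplicit false
set_option linter.style.haveILetI false
set_option maxHeartbeats 1000000
set_option backward.isDefEq.respectTransparency false
set_option backward.isDefEq.respectTransparency.types false

universe u

open CategoryTheory CategoryTheory.Limits AlgebraicGeometry TopologicalSpace Opposite
open Groth.Agent Groth.Agent.NumConn10
open Groth.Agent.NumPoly18 (ptIdeal)

namespace Groth.Agent.BlowPic10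

noncomputable local instance instLawBP (Y : Scheme.{u}) : PicGrp.Law Y := M2.law Y

variable {X : Scheme.{u}}

/-- A point strictly below a non-generic point has codimension at least two. -/
theorem two_le_ringKrullDim_stalk [IsIntegral X] {η z : X} (hη : η ≠ genericPoint X) (h : η ⤳ z) (hne : z ≠ η) :
    2 ≤ ringKrullDim (X.presheaf.stalk z) := by
  rw [ringKrullDim_stalk_eq_coheight z]
  have h1 : z < η := lt_of_le_not_ge h fun h' => hne (Specializes.antisymm h' h).eq
  have h2 : η < genericPoint X :=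
    lt_of_le_not_ge (genericPoint_specializes η) fun h' => hη (Specializes.antisymm h' (genericPoint_specializes η)).eq
  have a := Order.coheight_add_one_le h1
  have b := Order.coheight_add_one_le h2
  have c : (2 : ℕ∞) ≤ Order.coheight z :=
    calc (2 : ℕ∞) = 0 + 1 + 1 := by norm_num
      _ ≤ Order.coheight (genericPoint X) + 1 + 1 := by gcongr; exact bot_le
      _ ≤ Order.coheight η + 1 := by gcongr
      _ ≤ _ := a
  exact WithBot.coe_le_coe.2 c

/-- A divisor supported on an irreducible divisor is below it. -/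
theorem le_of_support_subset [IsNoetherian X] [IsIntegral X] {η : X} (hη : η ≠ genericPoint X)
    {E K : X.IdealSheafData} (hE : E = ptIdeal η) (hK : BlowUp.IsEffCartierIdeal K) (hne : K ≠ ⊤)
    (hs : (K.support : Set X) ⊆ E.support) : K ≤ E := by
  obtain ⟨x, hx⟩ : (K.support : Set X).Nonempty := by
    by_contra he
    refine hne ((Scheme.IdealSheafData.support_eq_bot_iff K).1 ?_)
    ext1
    exact Set.not_nonempty_iff_eq_empty.1 he
  have hEs : (E.support : Set X) = closure {η} := by
    rw [hE, Scheme.IdealSheafData.coe_support_vanishingIdeal]; rfl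
  obtain ⟨z, hz, hzm⟩ : ∃ z ∈ (K.support : Set X), ∀ y ∈ (K.support : Set X), y ⤳ z → y = z := by
    obtain ⟨C, hC, hxC⟩ : ∃ C ∈ irreducibleComponents (K.support : Set X), (⟨x, hx⟩ : (K.support : Set X)) ∈ C :=
      ⟨_, irreducibleComponent_mem_irreducibleComponents _, mem_irreducibleComponent⟩
    haveI : QuasiSober (K.support : Set X) := K.support.isClosed.isClosedEmbedding_subtypeVal.quasiSober
    obtain ⟨ζ, hζ⟩ := QuasiSober.sober hC.1 (isClosed_of_mem_irreducibleComponents C hC)
    refine ⟨ζ.1, ζ.2, fun y hy hyz => ?_⟩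
    have h1 : (⟨y, hy⟩ : (K.support : Set X)) ⤳ ζ := (subtype_specializes_iff _ _).2 hyz
    have h2 : C ⊆ closure {(⟨y, hy⟩ : (K.support : Set X))} :=
      hζ.def ▸ closure_minimal (Set.singleton_subset_iff.2 h1.mem_closure) isClosed_closure
    have h3 : closure {(⟨y, hy⟩ : (K.support : Set X))} = C :=
      (hC.eq_of_le isIrreducible_singleton.closure h2).symm
    exact congrArg Subtype.val (IsGenericPoint.eq (show IsGenericPoint _ C from h3) hζ)
  have hzη : z = η := by
    by_contra hne'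
    have hsp : η ⤳ z := specializes_iff_mem_closure.2 (hEs ▸ hs hz)
    obtain ⟨U, hzU, g, -, hg0, hgm, hq⟩ := SecDiv.exists_stalk_eqn hK hz
    have h2 := two_le_ringKrullDim_stalk hη hsp hne'
    rw [SecDiv.ringKrullDim_eq_one hg0 hgm (hq hzm)] at h2
    exact absurd h2 (by decide)
  subst hE
  refine SecDiv.le_of_support (NumPoly18.isIntegral_pt η).1 ?_
  rw [Scheme.IdealSheafData.coe_support_vanishingIdeal]
  exact closure_minimal (Set.singleton_subset_iff.2 (hzη ▸ hz)) K.support.isClosed

/-- Multiplication by a divisor is strictly decreasing. -/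
theorem mul_ne_self [IsNoetherian X] {K E : X.IdealSheafData} (hK : BlowUp.IsEffCartierIdeal K) (hE : E ≠ ⊤) :
    K * E ≠ K := by
  intro h
  refine hE ?_
  choose U hxU a ha using EffCartier.isEffCartierIdeal_iff.1 hK
  refine Scheme.IdealSheafData.ext_of_iSup_eq_top U ?_ fun x => ?_
  · exact eq_top_iff.2 fun x _ => Opens.mem_iSup.2 ⟨x, hxU x⟩
  · have h1 := congrArg (fun I => Scheme.IdealSheafData.ideal I (U x)) h
    simp only [Scheme.IdealSheafData.ideal_mul, Pi.mul_apply, (ha x).ideal_eq] at h1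
    rw [Scheme.IdealSheafData.ideal_top, Pi.top_apply, Ideal.eq_top_iff_one]
    obtain ⟨e, he, hea⟩ := Ideal.mem_span_singleton_mul.1 (h1.ge (Ideal.mem_span_singleton_self (a x)))
    have h2 : a x * (e - 1) = 0 := by rw [mul_sub, hea, mul_one, sub_self]
    have h3 : e - 1 = 0 := ((mul_right_mem_nonZeroDivisors_eq_zero_iff (ha x).mem).1 (by rw [mul_comm, h2]))
    rwa [← sub_eq_zero.1 h3]

/-- A divisor supported on an irreducible divisor is a multiple of it. -/
theorem eq_pow_of_support_subset [IsNoetherian X] [IsIntegral X] {η : X} (hη : η ≠ genericPoint X)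
    {E : X.IdealSheafData} (hEc : BlowUp.IsEffCartierIdeal E) (hE : E = ptIdeal η) :
    ∀ K : X.IdealSheafData, BlowUp.IsEffCartierIdeal K → (K.support : Set X) ⊆ E.support → ∃ n : ℕ, K = E ^ n := by
  haveI := SecDiv.wellFoundedGT (X := X)
  intro K
  induction K using (wellFounded_gt (α := X.IdealSheafData)).induction with
  | _ K ih =>
    intro hK hs
    by_cases hne : K = ⊤
    · exact ⟨0, by rw [pow_zero, hne, Scheme.IdealSheafData.one_eq_top]⟩
    obtain ⟨K', r, hK', hmul, hKK', -, -⟩ := exists_split hK hEc (le_of_support_subset hη hE hK hne hs)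
    have hEtop : E ≠ ⊤ := by
      intro h
      have h1 : η ∈ (E.support : Set X) := by
        rw [hE, Scheme.IdealSheafData.coe_support_vanishingIdeal]
        exact subset_closure rfl
      rw [h, Scheme.IdealSheafData.support_top] at h1
      exact h1
    have hlt : K < K' := lt_of_le_of_ne hKK' fun h => mul_ne_self hK' hEtop (hmul.trans h)
    obtain ⟨n, hn⟩ := ih K' hlt hK' fun x hx => hs (by
      rw [← hmul, Scheme.IdealSheafData.support_mul]
      exact Or.inl hx)
    exact ⟨n + 1, by rw [pow_succ, ← hn, hmul]⟩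

/-- The class of a power of the ideal of a divisor. -/
theorem icl_pow {E : X.IdealSheafData} (hEc : BlowUp.IsEffCartierIdeal E) :
    ∀ (n : ℕ) (h : BlowUp.IsEffCartierIdeal (E ^ n)), icl h = icl hEc ^ n
  | 0, h => by rw [pow_zero (icl hEc), icl_top h (by rw [pow_zero, Scheme.IdealSheafData.one_eq_top])]
  | n + 1, h => by
    have h1 := BlowUpExist.isEffCartierIdeal_pow hEc n
    have h2 : BlowUp.IsEffCartierIdeal (E ^ n * E) := EffCartier.isEffCartierIdeal_mul h1 hEc
    rw [icl_congr h h2 (pow_succ E n), icl_mul h1 hEc h2, icl_pow hEc n h1, pow_succ]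

theorem isIso_idealModι_restrict (I : X.IdealSheafData) (U : X.Opens) [IsNoetherian X]
    (h : Disjoint (U : Set X) (I.support : Set X)) :
    IsIso ((Scheme.Modules.restrictFunctor U.ι).map (ClSub.idealModι I)) := by
  let R := Scheme.Modules.restrictFunctor U.ι
  have hz : IsZero (R.obj (ClSub.quotMod I)) := FormalH7.isZero_restrict_of_disjoint_support U fun x hxU hx =>
    Set.disjoint_left.1 h hxU (NumPoly18.support_quotMod_subset I hx)
  have hS := (M2.shortExact_idealMod I).map_of_exact R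
  haveI : Mono (R.map (ClSub.idealModι I)) := hS.mono_f
  haveI : Epi (R.map (ClSub.idealModι I)) := hS.exact.epi_f (hz.eq_of_tgt _ _)
  exact isIso_of_mono_of_epi _

/-- An invertible module trivial off an irreducible divisor is a power of its ideal. -/
theorem exists_cls_eq_zpow [IsNoetherian X] [IsIntegral X] {η : X} (hη : η ≠ genericPoint X)
    {E : X.IdealSheafData} (hEc : BlowUp.IsEffCartierIdeal E) (hE : E = ptIdeal η)
    {M : X.Modules} (hM : PicF.IsInvertible M)
    (e : (Scheme.Modules.restrictFunctor (Scheme.Opens.ι E.support.compl)).obj M ≅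
      (Scheme.Modules.restrictFunctor (Scheme.Opens.ι E.support.compl)).obj (Coh.structureModule X)) :
    ∃ n : ℤ, PicGrp.cls M hM = icl hEc ^ n := by
  let U : X.Opens := E.support.compl
  let R := Scheme.Modules.restrictFunctor U.ι
  obtain ⟨F', ι, φ', hι, hF', hιiso, hφ'⟩ := Groth.Agent.S0816.result X (Coh.structureModule X) M
    (M1.isCoh_structureModule X) (Snapper.isCoh_of_isInvertible hM) U e.inv
  haveI := hι
  haveI := hF'.1
  let J := SecDiv.ofMono ι
  obtain ⟨eJ⟩ := SecDiv.nonempty_iso_idealMod ι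
  have hJ : (J.support : Set X) ⊆ (E.support : Set X) := by
    intro z hz
    by_contra hzU
    obtain ⟨W, hW, hzW, hWU⟩ := exists_isAffineOpen_mem_and_subset (U := U) (show z ∈ U from hzU)
    have htop : J.ideal ⟨W, hW⟩ = ⊤ := by
      haveI := hιiso
      have himg : U.ι ''ᵁ (U.ι ⁻¹ᵁ W) = W := by
        rw [U.ι.image_preimage_eq_opensRange_inf, Scheme.Opens.opensRange_ι]
        exact inf_eq_right.2 hWU
      haveI hb' : IsIso (((R.map ι)).app (U.ι ⁻¹ᵁ W)) := inferInstance
      have hb : Function.Surjective (ι.app W) := by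
        have h1 : Function.Surjective (ι.app (U.ι ''ᵁ (U.ι ⁻¹ᵁ W))) :=
          (ConcreteCategory.bijective_of_isIso (((R.map ι)).app (U.ι ⁻¹ᵁ W))).2
        rw [himg] at h1
        exact h1
      refine (Ideal.eq_top_iff_one _).2 ?_
      obtain ⟨a, ha⟩ := hb (1 : Γ(X, W))
      exact ⟨a, ha⟩
    rw [SetLike.mem_coe, Scheme.IdealSheafData.mem_support_iff_of_mem (U := ⟨W, hW⟩) hzW, Scheme.mem_zeroLocus_iff] at hz
    refine hz 1 (by rw [htop]; trivial) ?_
    rw [Scheme.basicOpen_of_isUnit _ isUnit_one]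
    exact hzW
  obtain ⟨n, hn⟩ := FormalH7.exists_pow_le_of_support_le E J hJ
  let K := E ^ (n + 1)
  have hKc : BlowUp.IsEffCartierIdeal K := BlowUpExist.isEffCartierIdeal_pow hEc _
  let T : ClSub.idealMod K ⟶ M := HdgLef1.idealMap hn ≫ eJ.inv ≫ φ'
  have hTiso : IsIso (R.map T) := by
    haveI := hιiso
    haveI : IsIso (R.map φ') := by rw [hφ']; infer_instance
    haveI h1 : IsIso (R.map (ClSub.idealModι J)) := isIso_idealModι_restrict J U
      (Set.disjoint_left.2 fun z hzU hzJ => hzU (hJ hzJ))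
    haveI h2 : IsIso (R.map (ClSub.idealModι K)) := isIso_idealModι_restrict K U
      (Set.disjoint_left.2 fun z hzU hzK => hzU (by rwa [Scheme.IdealSheafData.support_pow _ _ (Nat.succ_ne_zero n)] at hzK))
    haveI h3 : IsIso (R.map (HdgLef1.idealMap hn)) := by
      have h : R.map (HdgLef1.idealMap hn) ≫ R.map (ClSub.idealModι J) = R.map (ClSub.idealModι K) := by
        rw [← Functor.map_comp]
        exact congrArg R.map (kernel.lift_ι _ _ _)
      exact IsIso.of_isIso_fac_right h
    show IsIso (R.map (HdgLef1.idealMap hn ≫ eJ.inv ≫ φ'))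
    rw [Functor.map_comp, Functor.map_comp]
    infer_instance
  obtain ⟨V, hV, ⟨eV⟩⟩ := M2.exists_inverse (M2.isInvertible_idealMod K hKc)
  let N := CohB1.tensorMod M V
  have hN : PicF.IsInvertible N := M2.isInvertible_tensor hM hV
  let σ : Coh.structureModule X ⟶ N := eV.inv ≫ M2.tensorMap T (𝟙 V)
  have hσ : IsIso (R.map σ) := by
    haveI := hTiso
    haveI : IsIso (R.map (M2.tensorMap T (𝟙 V))) := by
      have h := RHom.restrictTensorIso_natural U.ι T (𝟙 V)
      have e2 : R.map (M2.tensorMap T (𝟙 V)) = (M2.restrictTensorIso U.ι _ _).hom ≫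
          M2.tensorMap (R.map T) (R.map (𝟙 V)) ≫ (M2.restrictTensorIso U.ι _ _).inv := by
        rw [← Category.assoc, ← h, Category.assoc, Iso.hom_inv_id, Category.comp_id]
      haveI : IsIso (M2.tensorMap (R.map T) (R.map (𝟙 V))) :=
        (M2.tensorIso (asIso (R.map T)) (asIso (R.map (𝟙 V)))).isIso_hom
      rw [e2]
      infer_instance
    show IsIso (R.map (eV.inv ≫ M2.tensorMap T (𝟙 V)))
    rw [Functor.map_comp]
    infer_instance
  have hle : U ≤ CohB1.genLocus N σ := Twist.le_genLocus hσ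
  have hgen : genericPoint X ∈ U := by
    show genericPoint X ∉ (E.support : Set X)
    rw [hE, Scheme.IdealSheafData.coe_support_vanishingIdeal]
    intro h
    exact hη ((genericPoint_specializes η).antisymm (specializes_iff_mem_closure.2 h)).eq.symm
  have hσ0 : σ ≠ 0 := fun h => by
    have hη' := hle hgen
    rw [h, Amp.mem_genLocus_iff hN, show Amp.gval (0 : Coh.structureModule X ⟶ N) = 0 from rfl, Amp.gm, map_zero] at hη'
    exact one_ne_zero (hη'.1 ((smul_zero (1 : X.presheaf.stalk (genericPoint X))).trans (smul_zero 0).symm))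
  have hZc := IrrDiv13.isEffCartier_zeroScheme hN σ hσ0
  obtain ⟨N', hN', ⟨eN⟩⟩ := M2.exists_inverse hN
  obtain ⟨eZ⟩ := IrrDiv13.nonempty_inverse_iso_zeroScheme hN hN' eN σ hσ0
  have hcN : PicGrp.cls N hN * icl hZc = 1 :=
    (PicGrp.cls_mul_cls_eq_one_iff hN (M2.isInvertible_idealMod _ hZc)).2 ⟨M2.tensorIso (Iso.refl N) eZ.symm ≪≫ eN⟩
  have hsub : ((PicF2.zeroScheme N σ).support : Set X) ⊆ E.support := fun z hz => by
    rw [AffCompl.coe_support_zeroScheme hN σ] at hz
    exact by_contra fun h => hz (hle h)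
  obtain ⟨m, hm⟩ := eq_pow_of_support_subset hη hEc hE _ hZc hsub
  have hclZ : icl hZc = icl hEc ^ m := by
    rw [icl_congr hZc (BlowUpExist.isEffCartierIdeal_pow hEc m) hm, icl_pow hEc m]
  have hclV : PicGrp.cls V hV = (icl hEc ^ (n + 1))⁻¹ := by
    rw [← PicGrp.cls_inv_eq_cls (M2.isInvertible_idealMod K hKc) hV ⟨eV⟩,
      show PicGrp.cls (ClSub.idealMod K) (M2.isInvertible_idealMod K hKc) = icl hKc from rfl, icl_pow hEc (n + 1)]
  have hclN : PicGrp.cls N hN = PicGrp.cls M hM * PicGrp.cls V hV := (AlgEquiv22.cls_tensor hM hV).symm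
  rw [hclN, hclV, hclZ, mul_eq_one_iff_eq_inv, mul_inv_eq_iff_eq_mul, ← zpow_natCast, ← zpow_natCast, ← zpow_neg,
    ← zpow_add] at hcN
  exact ⟨_, hcN⟩

/-- Pullback of classes. -/
noncomputable abbrev pbc {A B : Scheme.{u}} (f : A ⟶ B) : PicLoc.PicSet B →* PicLoc.PicSet A :=
  PicGrp.pullHom f (M2.pullMul f)

theorem pbc_comp {A B C : Scheme.{u}} (f : A ⟶ B) (g : B ⟶ C) (c : PicLoc.PicSet C) :
    pbc (f ≫ g) c = pbc f (pbc g c) := by
  obtain ⟨L, hL, rfl⟩ := PicGrp.exists_eq_cls c
  rw [PicGrp.pullHom_cls, PicGrp.pullHom_cls, PicGrp.pullHom_cls, PicGrp.cls_eq_cls_iff]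
  exact ⟨((Scheme.Modules.pullbackComp f g).app L).symm⟩

/-- A scheme with one point has no invertible modules besides the structure sheaf. -/
theorem eq_one_of_subsingleton {Z : Scheme.{u}} [Subsingleton Z] [Nonempty Z] (c : PicLoc.PicSet Z) : c = 1 := by
  obtain ⟨M, hM, rfl⟩ := PicGrp.exists_eq_cls c
  refine (PicGrp.cls_eq_one_iff hM).2 ?_
  obtain ⟨z⟩ := (inferInstance : Nonempty Z)
  obtain ⟨U, hzU, ⟨e⟩⟩ := hM z
  obtain rfl : U = ⊤ := top_le_iff.1 fun w _ => Subsingleton.elim z w ▸ hzU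
  let t := (⊤ : Z.Opens).ι
  haveI : IsIso t := Scheme.topIso Z |>.isIso_hom
  exact ⟨((Scheme.Modules.pullbackId _).app M).symm ≪≫
    ((Scheme.Modules.pullbackCongr (IsIso.inv_hom_id t)).app M).symm ≪≫
    ((Scheme.Modules.pullbackComp (inv t) t).app M).symm ≪≫
    (Scheme.Modules.pullback (inv t)).mapIso (((Scheme.Modules.restrictFunctorIsoPullback t).app M).symm ≪≫ e) ≪≫
    DMon9.pullOne (inv t)⟩

section Point

variable {Y : Scheme.{u}} [IsIntegral Y] {y : Y} (hy : IsClosed ({y} : Set Y))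
  [IsRegularLocalRing (Y.presheaf.stalk y)] (hdim : ringKrullDim (Y.presheaf.stalk y) = 2)
  (π : X ⟶ Y) (hπ : BlowUp.IsBlowUp π (PointBlowUp.ptIdeal hy))

include hdim hπ in
/-- The exceptional divisor is the closure of a non generic point. -/
theorem exists_generic_exceptional [IsNoetherian X] [IsIntegral X] :
    ∃ η : X, η ≠ genericPoint X ∧ BlowUp.exceptional π (PointBlowUp.ptIdeal hy) = ptIdeal η := by
  let E := BlowUp.exceptional π (PointBlowUp.ptIdeal hy)
  obtain ⟨e, -, -⟩ := PointBlowUp.exceptional_point hy hdim π hπ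
  haveI := RegExt.isIntegral_projSpace 1 (Y.residueField y)
  haveI : Nonempty E.subscheme := ⟨e.hom (genericPoint _)⟩
  haveI : IsIntegral E.subscheme := isIntegral_of_isOpenImmersion e.inv
  refine ⟨E.subschemeι (genericPoint E.subscheme), fun h => ?_, ?_⟩
  · have h1 : genericPoint X ∈ (E.support : Set X) := by
      rw [← Scheme.IdealSheafData.range_subschemeι, ← h]
      exact ⟨_, rfl⟩
    obtain ⟨U, hU, g, -, hg0, hgm, -⟩ := SecDiv.exists_stalk_eqn hπ.1 h1
    rw [IsLocalRing.maximalIdeal_eq_bot, Ideal.mem_bot] at hgm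
    exact zero_notMem_nonZeroDivisors (hgm ▸ hg0)
  · refine (Scheme.IdealSheafData.ker_subschemeι E).symm.trans ?_
    rw [SchImage.ker_eq_vanishingIdeal E.subschemeι]
    congr 1
    refine Closeds.ext ?_
    show closure (Set.range E.subschemeι) = closure {_}
    have h := ((genericPoint_spec E.subscheme).image E.subschemeι.continuous).def
    rw [Set.image_univ] at h
    exact h.symm

include hdim hπ in
/-- Every class is a pullback times a power of the exceptional divisor. -/
theorem exists_decomp [IsNoetherian Y] (hreg : ∀ x : Y, IsRegularLocalRing (Y.presheaf.stalk x))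
    [IsNoetherian X] [IsIntegral X] (c : PicLoc.PicSet X) :
    ∃ (a : PicLoc.PicSet Y) (n : ℤ), c = pbc π a * icl hπ.1 ^ n := by
  obtain ⟨η, hη, hE⟩ := exists_generic_exceptional hy hdim π hπ
  obtain ⟨M, hM, rfl⟩ := PicGrp.exists_eq_cls c
  let E := BlowUp.exceptional π (PointBlowUp.ptIdeal hy)
  let U : X.Opens := E.support.compl
  let V : Y.Opens := ⟨{y}ᶜ, hy.isOpen_compl⟩
  have hUV : U = π ⁻¹ᵁ V := by
    ext z
    show ¬ z ∈ E.support ↔ π z ≠ y
    rw [PointBlowUp.mem_support_exceptional hy π z]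
  haveI := PointBlowUp.isIso_restrict hy hπ
  let M₁ := (Scheme.Modules.restrictFunctor (π ⁻¹ᵁ V).ι).obj M
  let MV := (Scheme.Modules.pullback (inv (π ∣_ V))).obj M₁
  have hMV : PicF.IsInvertible MV := Twist.isInvertible_pullback _
    (M2.isInvertible_of_iso ((Scheme.Modules.restrictFunctorIsoPullback _).app M).symm (Twist.isInvertible_pullback _ hM))
  obtain ⟨L, hL, ⟨eL⟩⟩ := Groth.Agent.S7887.result Y hreg V MV hMV
  let W := (Scheme.Modules.pullback π).obj L
  have hW : PicF.IsInvertible W := Twist.isInvertible_pullback π hL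
  obtain ⟨eU⟩ : Nonempty ((Scheme.Modules.restrictFunctor U.ι).obj M ≅ (Scheme.Modules.restrictFunctor U.ι).obj W) := by
    rw [hUV]
    refine ⟨?_⟩
    symm
    exact (Scheme.Modules.restrictFunctorIsoPullback _).app W ≪≫ (Scheme.Modules.pullbackComp (π ⁻¹ᵁ V).ι π).app L ≪≫
      (Scheme.Modules.pullbackCongr (morphismRestrict_ι π V).symm).app L ≪≫
      ((Scheme.Modules.pullbackComp (π ∣_ V) V.ι).app L).symm ≪≫
      (Scheme.Modules.pullback (π ∣_ V)).mapIso (((Scheme.Modules.restrictFunctorIsoPullback V.ι).app L).symm ≪≫ eL) ≪≫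
      (Scheme.Modules.pullbackComp (π ∣_ V) (inv (π ∣_ V))).app M₁ ≪≫
      (Scheme.Modules.pullbackCongr (IsIso.hom_inv_id (π ∣_ V))).app M₁ ≪≫
      (Scheme.Modules.pullbackId _).app M₁
  obtain ⟨D, hD, ⟨eD⟩⟩ := M2.exists_inverse hW
  obtain ⟨n, hn⟩ := exists_cls_eq_zpow hη hπ.1 hE (M2.isInvertible_tensor hM hD)
    (M2.restrictTensorIso U.ι M D ≪≫ M2.tensorIso eU (Iso.refl _) ≪≫ (M2.restrictTensorIso U.ι W D).symm ≪≫
      (Scheme.Modules.restrictFunctor U.ι).mapIso eD)
  refine ⟨PicGrp.cls L hL, n, ?_⟩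
  rw [← AlgEquiv22.cls_tensor hM hD, ← PicGrp.cls_inv_eq_cls hW hD ⟨eD⟩, mul_inv_eq_iff_eq_mul, mul_comm] at hn
  rw [PicGrp.pullHom_cls]
  exact hn

include hdim hπ in
/-- Powers of the exceptional divisor are distinguished on the exceptional curve. -/
theorem exists_curve_detect :
    ∃ j : CohB1.ProjSpace 1 (Y.residueField y) ⟶ X,
      j ≫ π = CohB1.ProjSpace.toSpec 1 (Y.residueField y) ≫ Y.fromSpecResidueField y ∧
      (Set.range j = ((BlowUp.exceptional π (PointBlowUp.ptIdeal hy)).support : Set X)) ∧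
      ∀ n : ℤ, pbc j (icl hπ.1 ^ n) = 1 → n = 0 := by
  obtain ⟨e, he, ⟨eI⟩⟩ := PointBlowUp.exceptional_point hy hdim π hπ
  let E := BlowUp.exceptional π (PointBlowUp.ptIdeal hy)
  let j := e.hom ≫ E.subschemeι
  refine ⟨j, by rw [Category.assoc]; exact he, ?_, ?_⟩
  · rw [← Scheme.IdealSheafData.range_subschemeι]
    show Set.range (E.subschemeι ∘ e.hom) = _
    rw [Set.range_comp, Set.range_eq_univ.2 (show Function.Surjective e.hom from e.hom.homeomorph.surjective),
      Set.image_univ]
  let K := Y.residueField y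
  let T : (CohB1.ProjSpace 1 K).Modules := _root_.Twist.twistProjSpace 1 K 1
  have hT : PicF.IsInvertible T := M2.isInvertible_of_iso eI
    (Twist.isInvertible_pullback j (M2.isInvertible_idealMod _ hπ.1))
  have hj : pbc j (icl hπ.1) = PicGrp.cls T hT :=
    (PicGrp.pullHom_cls _ _ _ _).trans ((PicGrp.cls_eq_cls_iff _ _).2 ⟨eI⟩)
  have key : ∀ m : ℕ, PicGrp.cls T hT ^ m = 1 → m = 0 := by
    intro m hm
    have h1 := congrArg Subtype.val hm
    rw [PicGrp.cls_pow_val, PicGrp.one_val, PicGrp.cl_eq_cl_iff] at h1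
    obtain ⟨h1⟩ := h1
    obtain ⟨a⟩ := PicPn.nonempty_tensorPow_twist (n := 1) (k := K) 1 m
    obtain ⟨b⟩ := PicPn.nonempty_tensorPow_twist (n := 1) (k := K) 1 0
    have := PicPn.twist_injective (n := 1) (R := K) one_pos (a.symm ≪≫ h1 ≪≫ b)
    simpa using this
  intro n hn
  rw [map_zpow, hj] at hn
  obtain ⟨m, rfl | rfl⟩ := Int.eq_nat_or_neg n
  · rw [zpow_natCast] at hn
    simp [key m hn]
  · rw [zpow_neg, inv_eq_one, zpow_natCast] at hn
    simp [key m hn]

end Point

end Groth.Agent.BlowPic10
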